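import Cfsg.Agent.H559.OZ.SpIso
import Cfsg.Agent.H530.OZ.Row

/-!
# S4842: the isolated primes of `PSp_{2n}(q)`, `n` odd, dividing `q ^ n - 1` (helper559)

* `cong_psp_odd` : `Cong p r 0 S` for a prime `r` with `orderOf (q : ZMod r) = n`, `n ≥ 3` odd, `q ≥ 3`;
* `cp_psp_odd` : the same as `CP`.
-/

set_option autoImplicit false

open Module QuadraticMap Subgroup Cfsg Cfsg.Agent.Characters Cfsg.Agent.H730.OZ Cfsg.Agent.H477.OZ Cfsg.Agent.H53.HC
open Cfsg.Agent.H477.HC Cfsg.Agent.H366.OZ Cfsg.Agent.H732.VZ Cfsg.Agent.H364.OZ Cfsg.Agent.H530.CJ Cfsg.Agent.H530.OZ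
open Cfsg.Agent.H93.CJ Cfsg.Agent.H93.PReg

namespace Cfsg.Agent.H559.OZ

universe u

section space

variable {F L : Type} [Field F] [Field L] [Algebra F L]

/-- transport of linear automorphisms -/
def cj {U W : Type} [AddCommGroup U] [Module F U] [AddCommGroup W] [Module F W] (θ : U ≃ₗ[F] W) :
    (U ≃ₗ[F] U) ≃* (W ≃ₗ[F] W) where
  toFun g := (θ.symm.trans g).trans θ
  invFun h := (θ.trans h).trans θ.symm
  left_inv g := by
    ext v
    show θ.symm (θ (g (θ.symm (θ v)))) = g v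
    rw [LinearEquiv.symm_apply_apply, LinearEquiv.symm_apply_apply]
  right_inv h := by
    ext v
    show θ (θ.symm (h (θ (θ.symm v)))) = h v
    rw [LinearEquiv.apply_symm_apply, LinearEquiv.apply_symm_apply]
  map_mul' g g' := by
    ext v
    show θ (g (g' (θ.symm v))) = θ (g (θ.symm (θ (g' (θ.symm v)))))
    rw [LinearEquiv.symm_apply_apply]

theorem cj_apply {U W : Type} [AddCommGroup U] [Module F U] [AddCommGroup W] [Module F W] (θ : U ≃ₗ[F] W)
    (g : U ≃ₗ[F] U) (w : W) : cj θ g w = θ (g (θ.symm w)) := rfl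

/-- `dw` as a homomorphism -/
noncomputable def dwHom (F : Type) {L : Type} [Field F] [Field L] [Algebra F L] :
    Lˣ →* ((L × L) ≃ₗ[F] (L × L)) where
  toFun u := dw u
  map_one' := by
    refine LinearEquiv.ext fun v => ?_
    rw [dw_apply, inv_one, Units.val_one, one_mul, one_mul]
    rfl
  map_mul' u w := by
    refine LinearEquiv.ext fun v => ?_
    rw [LinearEquiv.mul_apply, dw_apply, dw_apply, dw_apply, Units.val_mul, mul_inv, Units.val_mul, mul_assoc, mul_assoc]

/-- The centralizer of `dw lam` in the symplectic group of `L × L`. -/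
theorem cen_dw [Finite F] [Finite L] {lam : Lˣ} (hT : Tor F (lam : L)) {g : (L × L) ≃ₗ[F] (L × L)}
    (hg : ∀ u v : L × L, Algebra.trace F L ((g u).1 * (g v).2) - Algebra.trace F L ((g v).1 * (g u).2) =
      Algebra.trace F L (u.1 * v.2) - Algebra.trace F L (v.1 * u.2))
    (hc : Commute g (dw lam)) : ∃ α : Lˣ, g = dw α := by
  have hfd : FiniteDimensional F L := Module.Finite.of_finite
  have hcc : ∀ v : L × L, g ((lam : L) * v.1, ((lam⁻¹ : Lˣ) : L) * v.2) =
      ((lam : L) * (g v).1, ((lam⁻¹ : Lˣ) : L) * (g v).2) := fun v => LinearEquiv.congr_fun hc.eq v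
  have h11 : ∀ a, (g ((lam : L) * a, 0)).1 = lam * (g (a, 0)).1 := by
    intro a
    have := congrArg Prod.fst (hcc (a, 0))
    simpa using this
  have h21 : ∀ a, (g ((lam : L) * a, 0)).2 = (lam : L)⁻¹ * (g (a, 0)).2 := by
    intro a
    have := congrArg Prod.snd (hcc (a, 0))
    simpa using this
  have h12 : ∀ b, (g (0, (lam : L) * b)).1 = (lam : L)⁻¹ * (g (0, b)).1 := by
    intro b
    have h1 := congrArg Prod.fst (hcc (0, (lam : L) * b))
    have h2 : (g (0, b)).1 = (lam : L) * (g (0, (lam : L) * b)).1 := by simpa using h1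
    rw [h2, inv_mul_cancel_left₀ lam.ne_zero]
  have h22 : ∀ b, (g (0, (lam : L) * b)).2 = (lam : L) * (g (0, b)).2 := by
    intro b
    have h1 := congrArg Prod.snd (hcc (0, (lam : L) * b))
    have h2 : (g (0, b)).2 = (lam : L)⁻¹ * (g (0, (lam : L) * b)).2 := by simpa using h1
    rw [h2, mul_inv_cancel_left₀ lam.ne_zero]
  have e21 := eq_zero hT (q := (LinearMap.snd F L L).comp (g.toLinearMap.comp (LinearMap.inl F L L))) h21
  have e12 := eq_zero hT (q := (LinearMap.fst F L L).comp (g.toLinearMap.comp (LinearMap.inr F L L))) h12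
  obtain ⟨α, hα⟩ := eq_mul hT (q := (LinearMap.fst F L L).comp (g.toLinearMap.comp (LinearMap.inl F L L))) h11
  obtain ⟨β, hβ⟩ := eq_mul hT (q := (LinearMap.snd F L L).comp (g.toLinearMap.comp (LinearMap.inr F L L))) h22
  have hα' : ∀ a, g (a, 0) = (α * a, 0) := fun a =>
    Prod.ext (hα a) (LinearMap.congr_fun e21 a)
  have hβ' : ∀ b, g (0, b) = (0, β * b) := fun b =>
    Prod.ext (LinearMap.congr_fun e12 b) (hβ b)
  have hgv : ∀ v : L × L, g v = (α * v.1, β * v.2) := by
    intro v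
    have h1 : v = (v.1, 0) + (0, v.2) := by simp
    rw [h1, map_add, hα', hβ']
    simp
  have hαβ : α * β = 1 := by
    have h1 : α * β - 1 = 0 := by
      refine eq_zero_of_trace (F := F) fun b => ?_
      have h2 := hg (1, 0) (0, b)
      rw [hgv, hgv] at h2
      simp only [mul_one, mul_zero, map_zero, sub_zero, one_mul] at h2
      rw [sub_mul, one_mul, map_sub, mul_assoc, h2, sub_self]
    exact sub_eq_zero.1 h1
  have hα0 : α ≠ 0 := left_ne_zero_of_mul_eq_one hαβ
  refine ⟨Units.mk0 α hα0, LinearEquiv.ext fun v => ?_⟩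
  rw [hgv, dw_apply]
  refine Prod.ext rfl ?_
  show β * v.2 = (((Units.mk0 α hα0)⁻¹ : Lˣ) : L) * v.2
  rw [Units.val_inv_eq_inv_val, Units.val_mk0, eq_inv_of_mul_eq_one_right hαβ]

/-- The isometry of `L × L` with the standard symplectic space. -/
theorem exists_theta [Finite L] {n : ℕ} (b : Basis (Fin n) F L) :
    ∃ θ : (L × L) ≃ₗ[F] (Fin n ⊕ Fin n → F), ∀ u v : L × L, (CForm.spF F n).B (θ u) (θ v) =
      Algebra.trace F L (u.1 * v.2) - Algebra.trace F L (v.1 * u.2) := by
  classical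
  have hfd : FiniteDimensional F L := Module.Finite.of_finite
  have : Algebra.IsAlgebraic F L := inferInstance
  have hnd := traceForm_nondegenerate F L
  set c : Basis (Fin n) F L := LinearMap.BilinForm.dualBasis (Algebra.traceForm F L) hnd b with hc
  have htr : ∀ x y : L, Algebra.trace F L (x * y) = ∑ i, b.repr x i * c.repr y i := by
    intro x y
    have h1 : ∀ i, c.repr y i = Algebra.trace F L (y * b i) := by
      intro i
      rw [hc, LinearMap.BilinForm.dualBasis_repr_apply, Algebra.traceForm_apply]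
    conv_lhs => rw [← b.sum_repr x]
    rw [Finset.sum_mul, map_sum]
    refine Finset.sum_congr rfl fun i _ => ?_
    rw [h1, smul_mul_assoc, map_smul, smul_eq_mul, mul_comm (b i)]
  refine ⟨(LinearEquiv.prodCongr b.equivFun c.equivFun : (L × L) ≃ₗ[F] (Fin n → F) × (Fin n → F)).trans
    (LinearEquiv.sumArrowLequivProdArrow (Fin n) (Fin n) F F).symm, fun u v => ?_⟩
  show (∑ i : Fin n, (b.repr u.1 i * c.repr v.2 i - c.repr u.2 i * b.repr v.1 i)) = _
  rw [htr, htr, ← Finset.sum_sub_distrib]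
  exact Finset.sum_congr rfl fun i _ => by ring

end space

theorem num4 {n : ℕ} (hn : 3 ≤ n) : 4 * n + 3 < 3 ^ n := by
  induction n, hn using Nat.le_induction with
  | base => norm_num
  | succ k hk ih => rw [pow_succ]; omega

/-- **Primes of order `n`, `n` odd.** -/
theorem cong_psp_odd {S : Type u} [Group S] [Finite S] {F : Type} [Field F] [Fintype F] {n : ℕ} (e : S ≃* PSp n F)
    (hn : 3 ≤ n) (hodd : Odd n) (hq3 : 3 ≤ Fintype.card F) {p : ℕ} [hp : Fact p.Prime] [CharP F p] {r : ℕ}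
    (hr : r.Prime) (hD : orderOf ((Fintype.card F : ℕ) : ZMod r) = n) : Cong p r 0 S := by
  classical
  have hrf := Fact.mk hr
  obtain ⟨π, hπ, hker, hcard⟩ := Cfsg.Agent.H366.OZ.exists_pi e (by omega : 1 ≤ n)
  have hcF : Nat.card F = Fintype.card F := Nat.card_eq_fintype_card
  have hrq : ¬ r ∣ Fintype.card F := not_dvd_of_order hr (by omega) hD
  obtain ⟨-, a, ha, hqa⟩ := exists_pow F p
  have hfd : Module.finrank F (Fin n ⊕ Fin n → F) = 2 * n := by
    rw [Module.finrank_fintype_fun_eq_card, Fintype.card_sum, Fintype.card_fin]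
    ring
  have hrp : r ≠ p := by
    rintro rfl
    apply hrq
    rw [hqa]
    exact dvd_pow_self r (by omega)
  have hrn : n + 1 ≤ r := by
    have := le_sub_one (q := Fintype.card F) hr hrq
    rw [hD] at this
    exact this
  have hr2 : r ≠ 2 := by omega
  have hdvd : ∀ i : ℕ, r ∣ Fintype.card F ^ i - 1 ↔ n ∣ i := by
    intro i
    have h1 : 1 ≤ Fintype.card F ^ i := Nat.one_le_pow _ _ (by omega)
    rw [← hD, orderOf_dvd_iff_pow_eq_one, ← ZMod.natCast_eq_zero_iff, Nat.cast_sub h1]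
    push_cast
    exact sub_eq_zero
  -- the kernel
  have hν : Nat.card π.ker ∣ 2 := by rw [hcard]; exact Nat.gcd_dvd_left _ _
  have hν2 : Nat.card π.ker ≤ 2 := Nat.le_of_dvd two_pos hν
  have hkr : ¬ r ∣ Nat.card π.ker := fun h => by
    have := Nat.le_of_dvd two_pos (h.trans hν)
    omega
  have hkp : ¬ p ∣ Nat.card π.ker := by
    rw [hcard]
    intro h
    have h2 : p ∣ Fintype.card F - 1 := h.trans (Nat.gcd_dvd_right _ _)
    have h3 : p ∣ Fintype.card F := by rw [hqa]; exact dvd_pow_self p (by omega)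
    have h4 := Nat.dvd_sub h3 h2
    rw [Nat.sub_sub_self Fintype.card_pos] at h4
    exact hp.out.one_lt.ne' (Nat.dvd_one.1 h4)
  -- the field
  obtain ⟨L, _, _, b, hLf, y, hL, hy⟩ := Singer.exists_ext F n (by omega)
  have hrk : Module.finrank F L = n := by rw [Module.finrank_eq_card_basis b, Fintype.card_fin]
  have hchL : CharP L p := charP_of_injective_algebraMap (algebraMap F L).injective p
  obtain ⟨s, hs⟩ := (hdvd n).2 dvd_rfl
  have hFk : 3 ^ n ≤ Fintype.card F ^ n := Nat.pow_le_pow_left hq3 n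
  have hs0 : s ≠ 0 := by
    rintro rfl
    have := Nat.pow_le_pow_right (by norm_num : 0 < 3) hn
    omega
  set lam : Lˣ := y ^ s with hlam
  have hlamo' : orderOf lam = r := by
    rw [hlam, orderOf_pow_of_dvd hs0 (by rw [hy, hs]; exact Dvd.intro_left r rfl), hy, hs,
      Nat.mul_div_cancel _ (Nat.pos_of_ne_zero hs0)]
  have hlamo : orderOf (lam : L) = r := by rw [orderOf_units, hlamo']
  have hT : Tor F (lam : L) := tor_of_odd hr hr2 lam.ne_zero hlamo (by rwa [hrk]) (by
    intro i hi hi2 h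
    rw [hcF] at h
    rw [hrk] at hi2
    have := Nat.le_of_dvd hi ((hdvd i).1 h)
    omega)
  obtain ⟨θ, hθ⟩ := exists_theta b
  -- the torus
  have hmem : ∀ α : Lˣ, cj θ (dw α) ∈ (CForm.spF F n).iso := by
    intro α
    refine ⟨fun u v => ?_, fun v => rfl⟩
    have hB : ∀ u v : L × L, (CForm.spF F n).B (θ ((dw α : (L × L) ≃ₗ[F] (L × L)) u)) (θ ((dw α : (L × L) ≃ₗ[F] (L × L)) v)) = (CForm.spF F n).B (θ u) (θ v) := by
      intro u v
      rw [hθ, hθ, dw_apply, dw_apply]
      have h1 : ∀ x z : L, (α : L) * x * (((α⁻¹ : Lˣ) : L) * z) = x * z := by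
        intro x z
        rw [mul_mul_mul_comm, Units.mul_inv, one_mul]
      simp only [h1]
    have h2 := hB (θ.symm u) (θ.symm v)
    rw [LinearEquiv.apply_symm_apply, LinearEquiv.apply_symm_apply] at h2
    exact h2
  let δ : Lˣ →* (CForm.spF F n).iso := MonoidHom.mk' (fun α => ⟨cj θ (dw α), hmem α⟩) (fun α β => Subtype.ext (by
    show cj θ (dw (α * β)) = cj θ (dw α) * cj θ (dw β)
    rw [← map_mul]
    congr 1
    exact (dwHom F).map_mul α β))
  have hδinj : Function.Injective δ := by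
    intro α β h
    have h1 : cj θ (dw α) = cj θ (dw β) := congrArg Subtype.val h
    have h2 := (cj θ).injective h1
    have h3 := congrArg Prod.fst (LinearEquiv.congr_fun h2 (1, 0))
    rw [dw_apply, dw_apply] at h3
    have h4 : (α : L) * 1 = β * 1 := h3
    rw [mul_one, mul_one] at h4
    exact Units.ext h4
  set z : (CForm.spF F n).iso := δ lam with hz
  have hzo : orderOf z = r := by rw [hz, orderOf_injective δ hδinj, hlamo']
  have hcen : ∀ g : (CForm.spF F n).iso, Commute g z → ∃ α, g = δ α := by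
    intro g hg
    obtain ⟨α, hα⟩ := cen_dw (F := F) hT (g := (cj θ).symm (g : (Fin n ⊕ Fin n → F) ≃ₗ[F] (Fin n ⊕ Fin n → F))) (by
      intro u v
      have h1 : ∀ w : L × L, θ ((cj θ).symm (g : (Fin n ⊕ Fin n → F) ≃ₗ[F] (Fin n ⊕ Fin n → F)) w) =
          (g : (Fin n ⊕ Fin n → F) ≃ₗ[F] (Fin n ⊕ Fin n → F)) (θ w) := by
        intro w
        show θ (θ.symm ((g : (Fin n ⊕ Fin n → F) ≃ₗ[F] (Fin n ⊕ Fin n → F)) (θ w))) = _
        rw [LinearEquiv.apply_symm_apply]
      rw [← hθ, h1, h1, CForm.iso_B, hθ]) (by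
      have h1 : Commute (g : (Fin n ⊕ Fin n → F) ≃ₗ[F] (Fin n ⊕ Fin n → F)) (cj θ (dw lam)) := congrArg Subtype.val hg.eq
      have h2 := h1.map (cj θ).symm
      rwa [MulEquiv.symm_apply_apply] at h2)
    refine ⟨α, Subtype.ext ?_⟩
    show (g : (Fin n ⊕ Fin n → F) ≃ₗ[F] (Fin n ⊕ Fin n → F)) = cj θ (dw α)
    rw [← hα, MulEquiv.apply_symm_apply]
  have hle : Subgroup.centralizer ({z} : Set (CForm.spF F n).iso) ≤ δ.range := by
    intro g hg
    obtain ⟨α, hα⟩ := hcen g (Subgroup.mem_centralizer_singleton_iff.1 hg)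
    exact ⟨α, hα.symm⟩
  have hfin : Finite (CForm.spF F n).iso := by
    have : Finite ((Fin n ⊕ Fin n → F) ≃ₗ[F] (Fin n ⊕ Fin n → F)) :=
      Finite.of_injective (fun e => (e : (Fin n ⊕ Fin n → F) → (Fin n ⊕ Fin n → F)))
        (fun a b hab => LinearEquiv.ext fun v => congrFun hab v)
    exact Subtype.finite
  let τ : Subgroup.centralizer ({z} : Set (CForm.spF F n).iso) →* Lˣ :=
    (MonoidHom.ofInjective hδinj).symm.toMonoidHom.comp (Subgroup.inclusion hle)
  have hτ : Function.Injective τ :=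
    (MonoidHom.ofInjective hδinj).symm.injective.comp (Subgroup.inclusion_injective hle)
  refine IsoAt.cong hp.out hr hrp (isoAt_of_cover (c := Nat.card π.ker) (z := z) hπ hr hp.out ?_ ?_ ?_ ?_ hzo τ ?_ ?_ ?_ ?_)
  · intro k hk h
    exact (Subgroup.mem_center_iff.1 (hker hk) h).symm
  · intro k hk
    have h1 : (⟨k, hk⟩ : π.ker) ^ Nat.card π.ker = 1 := pow_card_eq_one'
    exact congrArg Subtype.val h1
  · exact ((Nat.Prime.coprime_iff_not_dvd hr).2 hkr).symm
  · exact ((Nat.Prime.coprime_iff_not_dvd hp.out).2 hkp).symm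
  · intro x _ hx
    exact hτ (hx.trans (map_one τ).symm)
  · intro x y _
    apply hτ
    rw [map_mul, map_mul, mul_comm]
  · intro x hx hxp
    obtain ⟨α, rfl⟩ := hcen x hx.symm
    have h1 : α ^ p = 1 := by
      apply hδinj
      rw [map_pow, hxp, map_one]
    have h2 : α = 1 := by
      apply Units.ext
      have h5 : ((α : L) - 1) ^ p = 0 := by
        rw [sub_pow_char, one_pow, ← Units.val_pow_eq_pow_val, h1, Units.val_one, sub_self]
      exact sub_eq_zero.1 (pow_eq_zero_iff hp.out.ne_zero |>.1 h5)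
    rw [h2, map_one]
  · rintro ⟨h1, h2⟩
    -- the order of the torus
    have h3 : Fintype.card F ^ n - 1 ∣ r * 2 := by
      rw [← hy]
      apply orderOf_dvd_of_pow_eq_one
      apply hδinj
      have h4 := h1 (δ y) (by
        show δ lam * δ y = δ y * δ lam
        rw [← map_mul, ← map_mul, mul_comm])
      rw [← map_pow] at h4
      have h5 : (⟨δ y ^ r, MonoidHom.mem_ker.2 h4⟩ : π.ker) ^ Nat.card π.ker = 1 := pow_card_eq_one'
      have h6 : (δ y ^ r) ^ Nat.card π.ker = 1 := congrArg Subtype.val h5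
      obtain ⟨k, hk⟩ := hν
      rw [map_pow, pow_mul, hk, pow_mul, h6, one_pow, map_one]
    -- the eigenvalues
    have h4 : r ≤ 2 * n + 1 := by
      have h5 := le_of_roots (U := (Fin n ⊕ Fin n → F)) (F := F) (L := L)
        (z : (Fin n ⊕ Fin n → F) ≃ₗ[F] (Fin n ⊕ Fin n → F)).toLinearMap hlamo (by
        intro m hm0 hm
        have hrm : ¬ r ∣ m := fun h => absurd (Nat.le_of_dvd hm0 h) (not_le.2 hm)
        obtain ⟨g, hg⟩ := isConj_iff.1 (h2 m hrm)
        have hg' : (g : (Fin n ⊕ Fin n → F) ≃ₗ[F] (Fin n ⊕ Fin n → F)) * z * (g : (Fin n ⊕ Fin n → F) ≃ₗ[F] (Fin n ⊕ Fin n → F))⁻¹ =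
            (z : (Fin n ⊕ Fin n → F) ≃ₗ[F] (Fin n ⊕ Fin n → F)) ^ m := congrArg Subtype.val hg
        have h3 : ((z : (Fin n ⊕ Fin n → F) ≃ₗ[F] (Fin n ⊕ Fin n → F)) ^ m).toLinearMap.charpoly =
            (z : (Fin n ⊕ Fin n → F) ≃ₗ[F] (Fin n ⊕ Fin n → F)).toLinearMap.charpoly := by
          rw [← hg']
          exact LinearEquiv.charpoly_conj (g : (Fin n ⊕ Fin n → F) ≃ₗ[F] (Fin n ⊕ Fin n → F))
            (z : (Fin n ⊕ Fin n → F) ≃ₗ[F] (Fin n ⊕ Fin n → F)).toLinearMap
        rw [← h3]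
        refine root_charpoly _ ((lam : L) ^ m) (θ.toLinearMap.comp (LinearMap.inl F L L))
          (θ.injective.comp LinearMap.inl_injective) ?_
        intro l
        have h5 : (z : (Fin n ⊕ Fin n → F) ≃ₗ[F] (Fin n ⊕ Fin n → F)) ^ m = cj θ (dw (lam ^ m)) := by
          have h6 : δ lam ^ m = δ (lam ^ m) := (map_pow δ lam m).symm
          exact congrArg Subtype.val h6
        rw [h5]
        show θ (dw (lam ^ m) (θ.symm (θ (l, 0)))) = θ ((lam : L) ^ m * l, 0)
        rw [LinearEquiv.symm_apply_apply, dw_apply]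
        congr 1
        exact Prod.ext (by rw [Units.val_pow_eq_pow_val]) (mul_zero _))
      rwa [hfd] at h5
    have h5 := Nat.le_of_dvd (by omega) h3
    have h6 := num4 hn
    omega

/-- the characteristic -/
theorem charP_of_card {F : Type} [Field F] [Fintype F] {p a : ℕ} (hp : p.Prime) (hcard : Fintype.card F = p ^ a) :
    CharP F p ∧ 0 < a := by
  have hF : 2 ≤ Fintype.card F := Fintype.one_lt_card
  have ha : 0 < a := Nat.pos_of_ne_zero (by rintro rfl; rw [hcard, pow_zero] at hF; omega)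
  obtain ⟨p', hp'⟩ := CharP.exists F
  obtain ⟨⟨f', hf'⟩, hpp', hcard'⟩ := FiniteField.card F p'
  simp only [PNat.mk_coe] at hcard'
  rw [hcard] at hcard'
  have h1 : p ∣ p' ^ f' := by rw [← hcard']; exact dvd_pow_self p ha.ne'
  have h2 : p = p' := (Nat.prime_dvd_prime_iff_eq hp hpp').1 (hp.dvd_of_dvd_pow h1)
  rw [h2]
  exact ⟨hp', ha⟩

/-- `CP` for the order `n`, `n` odd. -/
theorem cp_psp_odd {S : Type u} [Group S] [Finite S] {F : Type} [Field F] [Fintype F] {n : ℕ} (e : S ≃* PSp n F)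
    (hn : 3 ≤ n) (hodd : Odd n) (hq3 : 3 ≤ Fintype.card F) {p a : ℕ} (hp : p.Prime) (hcard : Fintype.card F = p ^ a)
    (hex : ¬ (p = 2 ∧ a * n = 6)) : CP p (a * n) S := by
  have hpf := Fact.mk hp
  obtain ⟨hch, ha⟩ := charP_of_card hp hcard
  have h5 : n ≤ a * n := Nat.le_mul_of_pos_left _ ha
  obtain ⟨r, hr, hord⟩ := Cfsg.Agent.Lib.Zsigmondy.exists_prime_orderOf (a := p) (n := a * n) hp.two_le
    (by omega) (by omega) hex
  exact ⟨r, hr, hord, cong_psp_odd e hn hodd hq3 hr (orderOf_of_pow ha hcard hord)⟩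

/-- `CP` for a divisor of `a n`, `n` odd (`3` for `q = 4`, `n = 3`). -/
theorem exists_cp_psp_odd {S : Type u} [Group S] [Finite S] {F : Type} [Field F] [Fintype F] {n : ℕ} (e : S ≃* PSp n F)
    (hn : 3 ≤ n) (hodd : Odd n) (hq3 : 3 ≤ Fintype.card F) {p a : ℕ} (hp : p.Prime) (hcard : Fintype.card F = p ^ a) :
    ∃ D, D ∣ a * n ∧ n ∣ D ∧ CP p D S := by
  by_cases hex : p = 2 ∧ a * n = 6
  · obtain ⟨rfl, h6⟩ := hex
    have hpf := Fact.mk hp
    obtain ⟨hch, ha⟩ := charP_of_card hp hcard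
    have hn3 : n = 3 := by
      have h1 : n ∣ 6 := Dvd.intro_left _ h6
      have h2 : n ≤ 6 := Nat.le_of_dvd (by norm_num) h1
      interval_cases n
      · rfl
      · exact absurd h1 (by decide)
      · exact absurd h1 (by decide)
      · exact absurd hodd (by decide)
    subst hn3
    have ha2 : a = 2 := by omega
    subst ha2
    have h7 : Nat.Prime 7 := by norm_num
    have hf7 := Fact.mk h7
    refine ⟨3, by norm_num, dvd_rfl, 7, h7, ?_, cong_psp_odd e hn hodd hq3 h7 ?_⟩
    · exact orderOf_eq_prime (by decide) (by decide)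
    · rw [hcard]
      exact orderOf_eq_prime (by decide) (by decide)
  · exact ⟨a * n, dvd_rfl, Dvd.intro_left _ rfl, cp_psp_odd e hn hodd hq3 hp hcard hex⟩

end Cfsg.Agent.H559.OZ
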