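import Mathlib

/-!
# Numbers for `POmega⁺_8` (helper559, for helper292)
-/

set_option autoImplicit false

namespace Cfsg.Agent.H559.OZ

theorem num {q k i : ℕ} (hq : 3 ≤ q) (hk : k = 3 ∨ k = 4) (hi : i < k) :
    ¬ ((q : ℤ) ^ k - 1 ∣ 4 * ((q : ℤ) ^ i + 1)) ∧ (0 < i → ¬ ((q : ℤ) ^ k - 1 ∣ 4 * ((q : ℤ) ^ i - 1))) ∧
      ¬ ((q : ℤ) ^ k - 1 ∣ 4 * (2 - (q : ℤ) ^ i)) ∧ ¬ ((q : ℤ) ^ k - 1 ∣ 4 * (2 + (q : ℤ) ^ i)) := by
  rcases Nat.lt_or_ge q 5 with h5 | h5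
  · have hq' : q = 3 ∨ q = 4 := by omega
    rcases hq' with rfl | rfl <;> rcases hk with rfl | rfl <;> interval_cases i <;> norm_num
  · obtain ⟨j, rfl⟩ : ∃ j, k = j + 1 := ⟨k - 1, by omega⟩
    have hj : 2 ≤ j := by omega
    have hx : (5 : ℤ) ≤ q := by exact_mod_cast h5
    have hB : (25 : ℤ) ≤ (q : ℤ) ^ j := by
      have h1 : 5 ^ 2 ≤ q ^ j := (Nat.pow_le_pow_left h5 2).trans (Nat.pow_le_pow_right (by omega) hj)
      exact_mod_cast h1
    have hA : (q : ℤ) ^ i ≤ (q : ℤ) ^ j := by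
      have h1 : q ^ i ≤ q ^ j := Nat.pow_le_pow_right (by omega) (by omega)
      exact_mod_cast h1
    have hA1 : (1 : ℤ) ≤ (q : ℤ) ^ i := by
      have h1 : 1 ≤ q ^ i := Nat.one_le_pow _ _ (by omega)
      exact_mod_cast h1
    have hA5 : 0 < i → (5 : ℤ) ≤ (q : ℤ) ^ i := by
      intro h
      have h1 : 5 ^ 1 ≤ q ^ i := (Nat.pow_le_pow_left h5 1).trans (Nat.pow_le_pow_right (by omega) h)
      exact_mod_cast h1
    have hk : 5 * (q : ℤ) ^ j ≤ (q : ℤ) ^ (j + 1) := by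
      rw [pow_succ, mul_comm]
      exact mul_le_mul_of_nonneg_left hx (by linarith)
    have hi0 : i = 0 ∨ 0 < i := by omega
    have key : ∀ x : ℤ, x ≠ 0 → |x| < (q : ℤ) ^ (j + 1) - 1 → ¬ (q : ℤ) ^ (j + 1) - 1 ∣ x := fun x h0 h1 h2 =>
      h0 (Int.eq_zero_of_abs_lt_dvd h2 h1)
    refine ⟨key _ (by linarith) ?_, fun h => key _ ?_ ?_, key _ ?_ ?_, key _ (by linarith) ?_⟩
    · rw [abs_lt]; constructor <;> linarith
    · have := hA5 h
      intro h1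
      linarith
    · have := hA5 h
      rw [abs_lt]; constructor <;> linarith
    · rcases hi0 with rfl | h
      · norm_num
      · have := hA5 h
        intro h1
        linarith
    · rw [abs_lt]; constructor <;> linarith
    · rw [abs_lt]; constructor <;> linarith

end Cfsg.Agent.H559.OZ
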