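import Cfsg.Agent.H366.OZ.SpFront
import Cfsg.Agent.H477.OZ.Geo2
import Cfsg.Agent.H477.OZ.Tr
import Cfsg.Agent.H364.OZ.Mid

/-!
# S4842: the isolated primes of `PSp_{2n}(q)` (helper559)

* `cong_psp` : `Cong p r 0 S` for a prime `r` with `orderOf (q : ZMod r) = 2 n`, `n ≥ 2`, not (`n = 2` and `q ≤ 3`);
* `cp_psp` : `CP p (a * (2 * n)) S`, `q = p ^ a`.
-/

set_option autoImplicit false

open Cfsg Cfsg.Agent.Characters Cfsg.Agent.H730.OZ Cfsg.Agent.H477.OZ Cfsg.Agent.H53.HC Cfsg.Agent.H477.HC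
open Cfsg.Agent.H366.OZ Cfsg.Agent.H732.VZ Cfsg.Agent.H364.OZ

namespace Cfsg.Agent.H559.OZ

universe u

theorem not_dvd_of_order {q r d : ℕ} (hr : r.Prime) (hd : d ≠ 0) (h : orderOf (q : ZMod r) = d) : ¬ r ∣ q := by
  have := Fact.mk hr
  intro h1
  rw [(ZMod.natCast_eq_zero_iff _ _).2 h1] at h
  apply hd
  rw [← h, orderOf_eq_zero_iff']
  intro n hn h2
  rw [zero_pow hn.ne'] at h2
  exact zero_ne_one h2

theorem numSp {q n ν : ℕ} (hn : 2 ≤ n) (hq : 2 ≤ q) (hν : ν = Nat.gcd 2 (q - 1)) (hex : ¬ (n = 2 ∧ q ≤ 3)) :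
    ν * (ν * (2 * n) + 1) < q ^ n + 1 := by
  rcases Nat.even_or_odd q with he | ho
  · have h1 : ν = 1 := by
      rw [hν]
      have h2 : Odd (q - 1) := Nat.Even.sub_odd (by omega) he odd_one
      exact (Nat.coprime_two_left).2 h2
    rw [h1]
    rcases Nat.eq_or_lt_of_le hn with rfl | h3
    · have h4 : 4 ≤ q := by
        have h5 : ¬ q ≤ 3 := fun h => hex ⟨rfl, h⟩
        omega
      have h5 : 4 ^ 2 ≤ q ^ 2 := Nat.pow_le_pow_left h4 2
      omega
    · have h4 : 2 ^ n ≤ q ^ n := Nat.pow_le_pow_left hq n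
      have h5 : 2 * n < 2 ^ n := by
        clear h4 hex hn
        induction n, h3 using Nat.le_induction with
        | base => norm_num
        | succ k hk ih => rw [pow_succ]; omega
      omega
  · have h1 : ν = 2 := by
      rw [hν]
      exact Nat.gcd_eq_left (Nat.Odd.sub_odd ho odd_one).two_dvd
    rw [h1]
    have hq3 : 3 ≤ q := by
      rcases ho with ⟨k, hk⟩
      omega
    rcases Nat.eq_or_lt_of_le hn with rfl | h3
    · have h4 : 5 ≤ q := by
        have h5 : ¬ q ≤ 3 := fun h => hex ⟨rfl, h⟩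
        rcases ho with ⟨k, hk⟩
        omega
      have h5 : 5 ^ 2 ≤ q ^ 2 := Nat.pow_le_pow_left h4 2
      omega
    · have h4 : 3 ^ n ≤ q ^ n := Nat.pow_le_pow_left hq3 n
      have h5 : 8 * n + 2 < 3 ^ n + 1 := by
        clear h4 hex hn
        induction n, h3 using Nat.le_induction with
        | base => norm_num
        | succ k hk ih => rw [pow_succ]; omega
      omega

/-- **Primes of order `2 n`.** -/
theorem cong_psp {S : Type u} [Group S] [Finite S] {F : Type} [Field F] [Fintype F] {n : ℕ} (e : S ≃* PSp n F)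
    (hn : 2 ≤ n) {p : ℕ} [hp : Fact p.Prime] [CharP F p] {r : ℕ} (hr : r.Prime)
    (hD : orderOf ((Fintype.card F : ℕ) : ZMod r) = 2 * n) (hex : ¬ (n = 2 ∧ Fintype.card F ≤ 3)) : Cong p r 0 S := by
  classical
  have hrf := Fact.mk hr
  obtain ⟨π, hπ, hker, hcard⟩ := Cfsg.Agent.H366.OZ.exists_pi e (by omega : 1 ≤ n)
  have hcF : Nat.card F = Fintype.card F := Nat.card_eq_fintype_card
  have hF : 2 ≤ Fintype.card F := Fintype.one_lt_card
  have hrq : ¬ r ∣ Fintype.card F := not_dvd_of_order hr (by omega) hD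
  obtain ⟨-, a, ha, hqa⟩ := exists_pow F p
  have hfin : Finite (CForm.spF F n).iso := by
    have : Finite ((Fin n ⊕ Fin n → F) ≃ₗ[F] (Fin n ⊕ Fin n → F)) :=
      Finite.of_injective (fun e => (e : (Fin n ⊕ Fin n → F) → (Fin n ⊕ Fin n → F)))
        (fun a b hab => LinearEquiv.ext fun v => congrFun hab v)
    exact Subtype.finite
  have hfd : Module.finrank F (Fin n ⊕ Fin n → F) = 2 * n := by
    rw [Module.finrank_fintype_fun_eq_card, Fintype.card_sum, Fintype.card_fin]
    ring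
  have hrp : r ≠ p := by
    rintro rfl
    apply hrq
    rw [hqa]
    exact dvd_pow_self r (by omega)
  have hr2 : 2 * n + 1 ≤ r := by
    have := le_sub_one (q := Fintype.card F) hr hrq
    rw [hD] at this
    exact this
  -- the kernel
  have hν : Nat.card π.ker ∣ 2 := by rw [hcard]; exact Nat.gcd_dvd_left _ _
  have hν2 : Nat.card π.ker ≤ 2 := Nat.le_of_dvd two_pos hν
  have hkr : ¬ r ∣ Nat.card π.ker := fun h => by
    have := Nat.le_of_dvd two_pos (h.trans hν)
    omega
  have hkp : ¬ p ∣ Nat.card π.ker := by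
    rw [hcard]
    intro h
    have h2 : p ∣ Fintype.card F - 1 := h.trans (Nat.gcd_dvd_right _ _)
    have h3 : p ∣ Fintype.card F := by rw [hqa]; exact dvd_pow_self p (by omega)
    have h4 := Nat.dvd_sub h3 h2
    rw [Nat.sub_sub_self Fintype.card_pos] at h4
    exact hp.out.one_lt.ne' (Nat.dvd_one.1 h4)
  -- `r` divides the order
  have hrG : r ∣ Nat.card (CForm.spF F n).iso := by
    rw [card_eq_mul_ker hπ, hcard, mul_comm, card_psp e (by omega)]
    refine Dvd.dvd.mul_left ?_ _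
    have h1 : r ∣ Fintype.card F ^ (2 * n) - 1 := by
      have h2 : 1 ≤ Fintype.card F ^ (2 * n) := Nat.one_le_pow _ _ (by omega)
      rw [← ZMod.natCast_eq_zero_iff, Nat.cast_sub h2]
      push_cast
      rw [← hD, pow_orderOf_eq_one, sub_self]
    refine h1.trans ?_
    have h3 := Finset.dvd_prod_of_mem (fun i => Fintype.card F ^ (2 * (i + 1)) - 1)
      (Finset.mem_range.2 (by omega : n - 1 < n))
    simpa [show n - 1 + 1 = n by omega] using h3
  obtain ⟨y, hyR, hbig, hRT, hC, hcyc⟩ := exists_big (F := CForm.spF F n) (by rw [hcF]; exact hrq)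
    (by rw [hfd, hcF, hD]; omega) (default : Sylow r (CForm.spF F n).iso) hrG
  have hcom : comS (y : (Fin n ⊕ Fin n → F) ≃ₗ[F] (Fin n ⊕ Fin n → F)) = ⊤ := by
    apply Submodule.eq_top_of_finrank_eq
    rw [hbig.finrank_comS, hcF, hD, hfd]
  have hnd : Nat.card (Subgroup.centralizer ({y} : Set (CForm.spF F n).iso)) ≠ r * Nat.card π.ker ∨
      ∃ m : ℕ, ¬ r ∣ m ∧ ¬ IsConj (π y) (π y ^ m) := by
    refine hbig.card_cent_or (fun a => rfl) (j := n) (by omega) (by rw [hcF, hD]) (fun a _ _ u _ => rfl) hπ hker hkr ?_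
    rw [hcF]
    exact numSp hn hF hcard hex
  -- the centralizer has no `p`-elements
  have hnop : ∀ v, Commute (π y) v → (∃ k : ℕ, orderOf v = p ^ k) → v = 1 := by
    intro v hv hvp
    obtain ⟨g, hg, rfl⟩ := (bijOn_pSet hπ hker hp.out hkp).surjOn (show v ∈ pSet p S from hvp)
    have h1 : π g ∈ Subgroup.centralizer ({π y} : Set S) := by
      rw [Subgroup.mem_centralizer_singleton_iff]
      exact hv.symm.eq
    rw [cent_map hπ hker hr hkr hbig.orderOf_eq] at h1
    obtain ⟨g', hg', h2⟩ := h1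
    rw [SetLike.mem_coe, Subgroup.mem_centralizer_singleton_iff] at hg'
    have hk : g * g'⁻¹ ∈ π.ker := by rw [MonoidHom.mem_ker, map_mul, map_inv, h2, mul_inv_cancel]
    have h3 : Commute (g * g'⁻¹) y := (Subgroup.mem_center_iff.1 (hker hk) y).symm
    have h4 : Commute g y := by
      have h5 := h3.mul_left (show Commute g' y from hg')
      rwa [inv_mul_cancel_right] at h5
    have h6 := hbig.mem_Ky_of_char (p := p) h4 hg
    have h7 : g = 1 := by
      apply Subtype.ext
      refine LinearEquiv.ext fun v => ?_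
      exact h6 v (by rw [hcom]; exact Submodule.mem_top)
    rw [h7, map_one]
  refine cong_of_const hp.out hr hrp (orderOf_map hr hkr hbig.orderOf_eq) ?_ fun χ x hx => ⟨?_, ?_⟩
  · rw [pow_zero, Nat.card_eq_one_iff_unique]
    refine ⟨⟨fun v w => Subtype.ext ?_⟩, ⟨1, Commute.one_right _, 0, by simp⟩⟩
    rw [hnop v.1 v.2.1 v.2.2, hnop w.1 w.2.1 w.2.2]
  · exact tr_not_dvd hπ hker hkr _ hcyc hbig.orderOf_eq hyR hC hnd χ x hx
  · intro v hv hvp
    rw [hnop v hv hvp, mul_one]

theorem orderOf_of_pow {p a q r d : ℕ} (ha : 0 < a) (hq : q = p ^ a) (h : orderOf (p : ZMod r) = a * d) :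
    orderOf (q : ZMod r) = d := by
  rw [hq, Nat.cast_pow, orderOf_pow_of_dvd ha.ne' (by rw [h]; exact Dvd.intro _ rfl), h,
    Nat.mul_div_cancel_left _ ha]

/-- `CP` for the order `2 n`. -/
theorem cp_psp {S : Type u} [Group S] [Finite S] {F : Type} [Field F] [Fintype F] {n : ℕ} (e : S ≃* PSp n F)
    (hn : 2 ≤ n) {p a : ℕ} (hp : p.Prime) (hcard : Fintype.card F = p ^ a) (hex : ¬ (n = 2 ∧ Fintype.card F ≤ 3))
    (hex' : ¬ (n = 3 ∧ Fintype.card F = 2)) : CP p (a * (2 * n)) S := by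
  have hpf := Fact.mk hp
  have hF : 2 ≤ Fintype.card F := Fintype.one_lt_card
  have ha : 0 < a := Nat.pos_of_ne_zero (by rintro rfl; rw [hcard, pow_zero] at hF; omega)
  have hch : CharP F p := by
    obtain ⟨p', hp'⟩ := CharP.exists F
    obtain ⟨⟨f', hf'⟩, hpp', hcard'⟩ := FiniteField.card F p'
    simp only [PNat.mk_coe] at hcard'
    rw [hcard] at hcard'
    have h1 : p ∣ p' ^ f' := by rw [← hcard']; exact dvd_pow_self p ha.ne'
    have h2 : p = p' := (Nat.prime_dvd_prime_iff_eq hp hpp').1 (hp.dvd_of_dvd_pow h1)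
    rw [h2]
    exact hp'
  have h4 : 2 * 2 ≤ 2 * n := Nat.mul_le_mul_left 2 hn
  have h5 : 2 * n ≤ a * (2 * n) := Nat.le_mul_of_pos_left _ ha
  obtain ⟨r, hr, hord⟩ := Cfsg.Agent.Lib.Zsigmondy.exists_prime_orderOf (a := p) (n := a * (2 * n)) hp.two_le
    (by omega) (by omega) (by
      rintro ⟨rfl, h6⟩
      apply hex'
      have h7 : a * n = 3 := by
        have : 2 * (a * n) = 6 := by rw [← h6]; ring
        omega
      have h8 : n = 3 := by
        rcases (Nat.dvd_prime Nat.prime_three).1 (Dvd.intro_left _ h7) with h | h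
        · omega
        · exact h
      have h9 : a = 1 := by
        rw [h8] at h7
        omega
      exact ⟨h8, by rw [hcard, h9]; norm_num⟩)
  exact ⟨r, hr, hord, cong_psp e hn hr (orderOf_of_pow ha hcard hord) hex⟩

end Cfsg.Agent.H559.OZ
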